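/-
Degree of the generic fibre and cardinality of geometric fibres for quasi-finite morphisms.
-/
import Groth.Agent.L20.NormalCard.Count
import Groth.Agent.L22.FibreDim
import Mathlib.AlgebraicGeometry.Fiber
import Mathlib.AlgebraicGeometry.AlgClosed.Basic
import Mathlib.AlgebraicGeometry.Morphisms.QuasiFinite

set_option autoImplicit false
set_option linter.style.haveILetI false
set_option backward.isDefEq.respectTransparency.types false
set_option backward.isDefEq.respectTransparency false

universe u

open CategoryTheory CategoryTheory.Limits AlgebraicGeometry TensorProduct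

namespace Groth.L20.NormalCard

open Groth.L06.SepDegFibre

variable {X Y : Scheme.{u}}

/-- The generic fibre is reduced when the source is reduced and every generization of a point of it is trivial. -/
theorem isReduced_fiber (f : X ⟶ Y) [IsReduced X] (η : Y)
    (hη : ∀ x : X, f x = η → ∀ x', x' ⤳ x → x' = x) : IsReduced (f.fiber η) := by
  haveI : ∀ q : f.fiber η, _root_.IsReduced ((f.fiber η).presheaf.stalk q) := by
    intro q
    let x := f.fiberι η q
    have hx : f x = η := by
      have h : x ∈ Set.range (f.fiberι η) := ⟨q, rfl⟩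
      rwa [f.range_fiberι] at h
    have hdim : ∀ P : Ideal (X.presheaf.stalk x), P.IsPrime → P = IsLocalRing.maximalIdeal _ := by
      intro P hP
      have h1 := hη x hx (X.fromSpecStalk x ⟨P, hP⟩) (by
        have : (⟨P, hP⟩ : PrimeSpectrum (X.presheaf.stalk x)) ⤳ IsLocalRing.closedPoint _ :=
          IsLocalRing.specializes_closedPoint _
        refine Specializes.trans (this.map (X.fromSpecStalk x).continuous) (specializes_of_eq ?_)
        exact Scheme.fromSpecStalk_closedPoint)
      exact congrArg PrimeSpectrum.asIdeal ((X.fromSpecStalk x).isEmbedding.injective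
        (h1.trans Scheme.fromSpecStalk_closedPoint.symm))
    have hsurj := (f.fiberι η).stalkMap_surjective q
    haveI : IsField (X.presheaf.stalk x) → _root_.IsReduced ((f.fiber η).presheaf.stalk q) := fun hF => by
      letI := hF.toField
      exact IsReduced.mk fun a ha => by
        obtain ⟨b, rfl⟩ := hsurj a
        obtain ⟨k, hk⟩ := ha
        rw [← map_pow] at hk
        rcases eq_or_ne b 0 with rfl | hb
        · exact map_zero _
        · exact absurd hk (((isUnit_iff_ne_zero.mpr hb).pow k).map _).ne_zero
    refine this ?_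
    by_contra hF
    have hne : IsLocalRing.maximalIdeal (X.presheaf.stalk x) ≠ ⊥ := fun h =>
      hF ((IsLocalRing.isField_iff_maximalIdeal_eq).mpr h)
    refine hne ?_
    haveI : _root_.IsReduced (X.presheaf.stalk x) := inferInstance
    have : nilradical (X.presheaf.stalk x) = IsLocalRing.maximalIdeal _ := by
      rw [nilradical_eq_sInf]
      refine le_antisymm (sInf_le (IsLocalRing.maximalIdeal.isMaximal _).isPrime) ?_
      exact le_sInf fun P hP => (hdim P hP).ge
    rw [← this, nilradical_eq_zero]
    rfl
  exact AlgebraicGeometry.isReduced_of_isReduced_stalk _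

/-- The dimension of the functions on a finite reduced fibre is the sum of the residue degrees. -/
theorem finrank_fiber (f : X ⟶ Y) (η : Y) [IsFinite (f.fiberToSpecResidueField η)]
    [IsReduced (f.fiber η)] (hfin : (f.base ⁻¹' {η}).Finite) :
    @Module.finrank (Y.residueField η) Γ(f.fiber η, ⊤) _ _
      (((f.fiberToSpecResidueField η).appTop).hom.comp
        (Scheme.ΓSpecIso (Y.residueField η)).inv.hom).toAlgebra.toModule =
      ∑ x ∈ hfin.toFinset, EGA4loc.residueDegree f x := by
  classical
  let P := f.fiber η
  let π := f.fiberToSpecResidueField η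
  let K := Y.residueField η
  let C := Γ(P, ⊤)
  letI : Algebra K C := (π.appTop.hom.comp (Scheme.ΓSpecIso K).inv.hom).toAlgebra
  haveI : IsAffine P := isAffine_of_isAffineHom π
  have hfinC : (algebraMap K C).Finite := by
    refine RingHom.Finite.comp ?_ (RingHom.Finite.of_surjective _
      (Scheme.ΓSpecIso K).commRingCatIsoToRingEquiv.symm.surjective)
    exact ((HasAffineProperty.iff_of_isAffine (P := @IsFinite) (f := π)).mp inferInstance).2
  haveI : Module.Finite K C := hfinC
  haveI : IsArtinianRing C := IsArtinianRing.of_finite K C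
  haveI : Finite P := by
    haveI : Finite (f.base ⁻¹' {η}) := hfin.to_subtype
    exact Finite.of_equiv _ (f.fiberHomeo η).toEquiv.symm
  letI := Fintype.ofFinite P
  letI aQ : ∀ q : P, Algebra K (P.residueField q) := fun q =>
    ((P.evaluation ⊤ q trivial).hom.comp (algebraMap K C)).toAlgebra
  let ev : C →ₗ[K] ((q : P) → P.residueField q) := LinearMap.pi fun q =>
    { toFun := P.evaluation ⊤ q trivial
      map_add' := map_add _
      map_smul' := fun k c => by
        rw [Algebra.smul_def, map_mul, RingHom.id_apply, Algebra.smul_def]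
        rfl }
  have hev : Function.Injective ev := by
    rw [injective_iff_map_eq_zero]
    intro c hc
    exact (basicOpen_eq_bot_iff c).mp
      ((P.basicOpen_eq_bot_iff_forall_evaluation_eq_zero c).mpr fun q => congrFun hc q.1)
  have htop := isAffineOpen_top P
  have hker : ∀ q : P, RingHom.ker (P.evaluation ⊤ q trivial).hom =
      (htop.primeIdealOf ⟨q, trivial⟩).asIdeal := fun q => ker_evaluation htop q trivial
  have hmax : ∀ q : P, (RingHom.ker (P.evaluation ⊤ q trivial).hom).IsMaximal := fun q => by
    rw [hker]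
    exact IsArtinianRing.isMaximal_of_isPrime _
  have hsurj1 : ∀ q : P, Function.Surjective (P.evaluation ⊤ q trivial).hom := by
    intro q b
    obtain ⟨t, rfl⟩ := P.residue_surjective q b
    letI := P.presheaf.algebra_section_stalk (⟨q, trivial⟩ : (⊤ : P.Opens))
    haveI := htop.isLocalization_stalk ⟨q, trivial⟩
    obtain ⟨a, s, rfl⟩ := IsLocalization.exists_mk'_eq
      (htop.primeIdealOf ⟨q, trivial⟩).asIdeal.primeCompl t
    have hs0 : ∀ (q : P) (s : (htop.primeIdealOf ⟨q, trivial⟩).asIdeal.primeCompl),
        (s : Γ(P, ⊤)) ∉ RingHom.ker (P.evaluation ⊤ q trivial).hom := fun q s h => s.2 ((hker q).le h)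
    obtain ⟨r, i, hi, hri⟩ := Ideal.IsMaximal.exists_inv (hmax q) (x := (s : Γ(P, ⊤)))
      (fun h => hs0 q s h)
    refine ⟨a * r, ?_⟩
    have hs : (P.evaluation ⊤ q trivial).hom s ≠ 0 := fun h => hs0 q s (RingHom.mem_ker.mpr h)
    refine mul_right_cancel₀ hs ?_
    have h1 : (P.evaluation ⊤ q trivial).hom r * (P.evaluation ⊤ q trivial).hom s = 1 := by
      have := congrArg (P.evaluation ⊤ q trivial).hom hri
      rw [map_add, map_mul, RingHom.mem_ker.mp hi, add_zero, map_one] at this
      exact this
    rw [map_mul, mul_assoc, h1, mul_one]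
    show (P.residue q).hom (algebraMap _ _ a) = _
    rw [← IsLocalization.mk'_spec (P.presheaf.stalk q) a s, map_mul]
    rfl
  have hsurj : Function.Surjective ev := by
    intro b
    choose c hc using fun q => hsurj1 q (b q)
    have hco : Pairwise fun q q' : P => IsCoprime (RingHom.ker (P.evaluation ⊤ q trivial).hom)
        (RingHom.ker (P.evaluation ⊤ q' trivial).hom) := by
      intro q q' hne
      refine (Ideal.isCoprime_iff_sup_eq).mpr ((hmax q).coprime_of_ne (hmax q') fun h => hne ?_)
      rw [hker, hker] at h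
      have h2 : htop.primeIdealOf ⟨q, trivial⟩ = htop.primeIdealOf ⟨q', trivial⟩ := PrimeSpectrum.ext h
      have h3 := congrArg htop.fromSpec h2
      rw [htop.fromSpec_primeIdealOf, htop.fromSpec_primeIdealOf] at h3
      exact h3
    obtain ⟨c0, hc0⟩ := Ideal.pi_mkQ_surjective hco fun q => Ideal.Quotient.mk _ (c q)
    refine ⟨c0, funext fun q => ?_⟩
    show (P.evaluation ⊤ q trivial).hom c0 = b q
    rw [← hc q, ← sub_eq_zero, ← map_sub, ← RingHom.mem_ker]
    exact (Ideal.Quotient.mk_eq_mk_iff_sub_mem _ _).mp (congrFun hc0 q)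
  haveI : ∀ q : P, Module.Finite K (P.residueField q) := fun q =>
    Module.Finite.of_surjective ((LinearMap.proj (R := K) (φ := fun q : P => P.residueField q) q).comp ev)
      ((LinearMap.proj_surjective (R := K) (φ := fun q : P => P.residueField q) q).comp hsurj)
  rw [(LinearEquiv.ofBijective ev ⟨hev, hsurj⟩).finrank_eq, Module.finrank_pi_fintype]
  -- compare the degrees
  have hdeg : ∀ q : P, Module.finrank K (P.residueField q) = EGA4loc.residueDegree f (f.fiberι η q) := by
    intro q
    have hz : f (f.fiberι η q) = η := by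
      have h : f.fiberι η q ∈ Set.range (f.fiberι η) := ⟨q, rfl⟩
      rwa [f.range_fiberι] at h
    letI := (rmap f (f.fiberι η q) hz).toAlgebra
    rw [← finrank_rmap f _ hz]
    let g := (f.fiberι η).residueFieldMap q
    have hg : Function.Bijective g.hom := Groth.L22.FibreDim.residueFieldMap_bijective _ _
    have hcomp : CommRingCat.ofHom (rmap f (f.fiberι η q) hz) ≫ g =
        CommRingCat.ofHom (algebraMap K (P.residueField q)) := by
      apply Spec.map_injective
      rw [← cancel_mono (Y.fromSpecResidueField η), Spec.map_comp, Category.assoc, SpecMap_rmap,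
        ← Category.assoc, Scheme.Hom.SpecMap_residueFieldMap_fromSpecResidueField, Category.assoc,
        f.fiber_fac]
      have hπ : P.fromSpecResidueField q ≫ π =
          Spec.map (CommRingCat.ofHom (algebraMap K (P.residueField q))) := by
        have h2 : CommRingCat.ofHom (algebraMap K (P.residueField q)) =
            (Scheme.ΓSpecIso K).inv ≫ π.appTop ≫ P.evaluation ⊤ q trivial := rfl
        rw [h2, Spec.map_comp, Spec.map_comp, Category.assoc,
          ← SpecMap_evaluation htop q trivial, Category.assoc]
        congr 1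
        rw [IsAffineOpen.fromSpec_top, Iso.inv_comp_eq]
        have h := Scheme.toSpecΓ_naturality π
        rw [show P.isoSpec.hom = P.toSpecΓ from rfl, ← Category.assoc, ← h, Category.assoc,
          toSpecΓ_SpecMap_ΓSpecIso_inv, Category.comp_id]
      rw [← hπ, Category.assoc]
    exact ((AlgEquiv.ofBijective
      ({ g.hom with commutes' := fun k => ConcreteCategory.congr_hom hcomp k } :
        X.residueField (f.fiberι η q) →ₐ[K] P.residueField q) hg).toLinearEquiv.finrank_eq).symm
  simp only [hdeg]
  refine Finset.sum_bij (fun q _ => f.fiberι η q) (fun q _ => ?_)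
    (fun a _ b _ h => (f.fiberι η).isEmbedding.injective h) (fun x hx => ?_) (fun q _ => rfl)
  · rw [Set.Finite.mem_toFinset, ← f.range_fiberι η]
    exact ⟨q, rfl⟩
  · rw [Set.Finite.mem_toFinset, ← f.range_fiberι η] at hx
    obtain ⟨q, rfl⟩ := hx
    exact ⟨q, Finset.mem_univ _, rfl⟩

/-- Points of a geometric fibre of a quasi-finite morphism are geometric points over it. -/
theorem card_geometric_fiber (f : X ⟶ Y) [LocallyQuasiFinite f] [LocallyOfFiniteType f] {y : Y}
    {E : Type u} [Field E] [IsAlgClosed E] (ι : Y.residueField y ⟶ CommRingCat.of E) :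
    Nat.card ↥(pullback f (Spec.map ι ≫ Y.fromSpecResidueField y)) = Nat.card (Pts f ι) := by
  let ξ := Spec.map ι ≫ Y.fromSpecResidueField y
  let π := pullback.snd f ξ
  haveI : LocallyQuasiFinite π := MorphismProperty.pullback_snd _ _ inferInstance
  haveI : LocallyOfFiniteType π := inferInstance
  let pt : Spec (CommRingCat.of E) := IsLocalRing.closedPoint E
  haveI : DiscreteTopology ↥(pullback f ξ) := by
    have h := π.isDiscrete_preimage_singleton pt
    rw [show π ⁻¹' {pt} = Set.univ from
      Set.eq_univ_of_forall fun z => Subsingleton.elim (α := PrimeSpectrum E) _ _] at h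
    exact isDiscrete_univ_iff.mp h
  let e1 : Pts f ι ≃ {p : Spec (CommRingCat.of E) ⟶ pullback f ξ // p ≫ π = 𝟙 _} :=
    { toFun := fun m => ⟨pullback.lift m.1 (𝟙 _) (m.2.trans (Category.id_comp _).symm),
        pullback.lift_snd _ _ _⟩
      invFun := fun p => ⟨p.1 ≫ pullback.fst f ξ, by
        rw [Category.assoc, pullback.condition, ← Category.assoc, p.2, Category.id_comp]⟩
      left_inv := fun m => Subtype.ext (pullback.lift_fst _ _ _)
      right_inv := fun p => Subtype.ext (pullback.hom_ext (pullback.lift_fst _ _ _)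
        ((pullback.lift_snd _ _ _).trans p.2.symm)) }
  exact (Nat.card_congr ((e1.trans (pointEquivClosedPoint π)).trans
    (Equiv.subtypeUnivEquiv fun z => isClosed_discrete ({z} : Set ↥(pullback f ξ))))).symm

/-- Number of geometric points in a fibre over a finite étale affine piece. -/
theorem card_pts_of_finite_etale (f : X ⟶ Y) [IrreducibleSpace Y] {V : Y.Opens} (hV : IsAffineOpen V)
    [IsDomain Γ(Y, V)] [IsFinite (f ∣_ V)] [Etale (f ∣_ V)] {w : Y} (hw : w ∈ V)
    {E : Type u} [Field E] [IsAlgClosed E] (ι : Y.residueField w ⟶ CommRingCat.of E)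
    (hη : genericPoint Y ∈ V) :
    letI := (f.app V).hom.toAlgebra
    letI := (Y.evaluation V (genericPoint Y) hη).hom.toAlgebra
    Finite (Pts f ι) ∧ Nat.card (Pts f ι) =
      Module.finrank (Y.residueField (genericPoint Y))
        (Y.residueField (genericPoint Y) ⊗[Γ(Y, V)] Γ(X, f ⁻¹ᵁ V)) := by
  haveI : IsAffine (V : Scheme) := hV
  haveI : IsAffine ((f ⁻¹ᵁ V).toScheme) := isAffine_of_isAffineHom (f ∣_ V)
  have hW : IsAffineOpen (f ⁻¹ᵁ V) := ‹IsAffine ((f ⁻¹ᵁ V).toScheme)›
  letI aC : Algebra Γ(Y, V) Γ(X, f ⁻¹ᵁ V) := (f.app V).hom.toAlgebra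
  have happ : (f.app V).hom.Finite ∧ (f.app V).hom.Etale := by
    have h1 : ∀ O : Y.Opens, O = V.ι ''ᵁ ⊤ → (f.app O).hom.Finite ∧ (f.app O).hom.Etale := by
      rintro _ rfl
      have hf1 := (HasAffineProperty.iff_of_isAffine (P := @IsFinite) (f := f ∣_ V)).mp inferInstance
      have hf2 := (HasRingHomProperty.iff_of_isAffine (P := @Etale) (f := f ∣_ V)).mp inferInstance
      rw [morphismRestrict_appTop] at hf1 hf2
      exact ⟨(RingHom.finite_respectsIso.cancel_right_isIso _ _).mp hf1.2,
        (RingHom.Etale.respectsIso.cancel_right_isIso _ _).mp hf2⟩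
    exact h1 V (Scheme.Opens.ι_image_top V).symm
  haveI : Module.Finite Γ(Y, V) Γ(X, f ⁻¹ᵁ V) := happ.1
  haveI : Algebra.Etale Γ(Y, V) Γ(X, f ⁻¹ᵁ V) := RingHom.etale_algebraMap.mp happ.2
  letI : Algebra Γ(Y, V) (Y.residueField (genericPoint Y)) :=
    (Y.evaluation V (genericPoint Y) hη).hom.toAlgebra
  haveI : IsFractionRing Γ(Y, V) (Y.residueField (genericPoint Y)) := isFractionRing_residueField hV hη
  obtain ⟨e⟩ := card_pts_eq f hV hW hw ι
  letI : Algebra Γ(Y, V) E := (Y.evaluation V w hw ≫ ι).hom.toAlgebra
  obtain ⟨h1, h2⟩ := card_algHom_of_etale (A := Γ(Y, V)) Γ(X, f ⁻¹ᵁ V)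
    (Y.residueField (genericPoint Y)) E
  exact ⟨Finite.of_equiv _ e, (Nat.card_congr e).symm.trans h2⟩

end Groth.L20.NormalCard
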